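import Groth.Agent.S6333
import Mathlib.FieldTheory.PurelyInseparable.PerfectClosure
import Mathlib.FieldTheory.PrimitiveElement
import Mathlib.LinearAlgebra.Lagrange
import Mathlib.RingTheory.Polynomial.IsIntegral
import Mathlib.RingTheory.AlgebraicIndependent.Transcendental
import Mathlib.Algebra.MvPolynomial.Equiv

/-!
# Separable closedness of the field of a generic pencil

Let `P ⊆ Ω` be fields with `P` separably closed in `Ω`, and `ξ, η` algebraically independent over `P`.
If infinitely many field automorphisms of `Ω` preserve `P` and send `ξ` to `ξ + e η` for distinct `e ∈ P`,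
then `P(ξ)` is separably closed in `Ω`.
-/

set_option autoImplicit false
set_option linter.style.haveILetI false
universe u

open IntermediateField

namespace Groth.L20.GeomIrredLinear

variable {P Ω : Type u} [Field P] [Field Ω] [Algebra P Ω]

/-- An element of `L(ξ)` integral over `L[ξ]` lies in `L[ξ]`, for `ξ` transcendental. -/
theorem exists_aeval_eq {L : Type u} [Field L] [Algebra L Ω] {ξ : Ω} (hξ : Transcendental L ξ)
    {z : Ω} (hz : z ∈ L⟮ξ⟯) (hint : (Polynomial.aeval (R := L) ξ).toRingHom.IsIntegralElem z) :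
    ∃ q : Polynomial L, Polynomial.aeval ξ q = z := by
  classical
  obtain ⟨r, s, rfl⟩ := (IntermediateField.mem_adjoin_simple_iff L z).1 hz
  let g : FractionRing (Polynomial L) →+* Ω :=
    IsFractionRing.lift (g := (Polynomial.aeval (R := L) ξ).toRingHom) (transcendental_iff_injective.1 hξ)
  have hg : ∀ a, g (algebraMap _ _ a) = Polynomial.aeval ξ a := fun a =>
    IsFractionRing.lift_algebraMap _ a
  let w : FractionRing (Polynomial L) := algebraMap _ _ r / algebraMap _ _ s
  have hw : g w = Polynomial.aeval ξ r / Polynomial.aeval ξ s := by rw [map_div₀, hg, hg]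
  have hwint : IsIntegral (Polynomial L) w := by
    obtain ⟨F, hF, hF0⟩ := hint
    refine ⟨F, hF, g.injective ?_⟩
    rw [map_zero, Polynomial.hom_eval₂, hw, ← hF0]
    congr 1
    exact RingHom.ext hg
  obtain ⟨q, hq⟩ := IsIntegrallyClosed.isIntegral_iff.1 hwint
  exact ⟨q, by rw [← hg, hq, hw]⟩

variable (hP : ∀ z : Ω, IsSeparable P z → z ∈ Set.range (algebraMap P Ω))

include hP in
/-- An element algebraic over a separably closed subfield has a power in it. -/
theorem exists_pow_mem (q : ℕ) [ExpChar P q] {z : Ω} (hz : IsIntegral P z) :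
    ∃ m : ℕ, z ^ q ^ m ∈ Set.range (algebraMap P Ω) := by
  let A := algebraicClosure P Ω
  haveI : Algebra.IsAlgebraic P A := algebraicClosure.isAlgebraic P Ω
  have hbot : separableClosure P A = ⊥ := by
    rw [eq_bot_iff]
    intro a ha
    obtain ⟨r, hr⟩ := hP (a : Ω) (by
      have h := mem_separableClosure_iff.1 ha
      rw [IsSeparable, ← minpoly.algebraMap_eq (A := P) (B := A) (B' := Ω) Subtype.val_injective a] at h
      exact h)
    exact IntermediateField.mem_bot.2 ⟨r, Subtype.ext hr⟩
  haveI : IsPurelyInseparable P A := separableClosure.eq_bot_iff.1 hbot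
  obtain ⟨m, r, hr⟩ := IsPurelyInseparable.pow_mem P q (⟨z, mem_algebraicClosure_iff.2 hz.isAlgebraic⟩ : A)
  exact ⟨m, r, congrArg Subtype.val hr⟩

/-- A separable element with a power in the base field lies in the base field. -/
theorem mem_range_of_pow_mem (q : ℕ) [ExpChar P q] {z : Ω} (hz : IsSeparable P z) {m : ℕ}
    (hm : z ^ q ^ m ∈ Set.range (algebraMap P Ω)) : z ∈ Set.range (algebraMap P Ω) := by
  have h := IntermediateField.adjoin_simple_eq_adjoin_pow_expChar_pow_of_isSeparable P Ω hz q m
  have hb : P⟮z⟯ = ⊥ := by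
    rw [h, IntermediateField.adjoin_simple_eq_bot_iff, IntermediateField.mem_bot]
    exact hm
  exact IntermediateField.mem_bot.1 (hb ▸ IntermediateField.mem_adjoin_simple_self P z)

include hP in
/-- An element algebraic over `P` and separable over `P(ξ)` lies in `P`. -/
theorem mem_range_of_isSeparable_adjoin {ξ : Ω} (hξ : Transcendental P ξ) {z : Ω} (hz : IsIntegral P z)
    (hsep : IsSeparable P⟮ξ⟯ z) : z ∈ Set.range (algebraMap P Ω) := by
  obtain ⟨q, hq⟩ := ExpChar.exists P
  haveI := hq
  haveI : ExpChar P⟮ξ⟯ q := expChar_of_injective_ringHom (algebraMap P P⟮ξ⟯).injective q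
  obtain ⟨m, r, hr⟩ := exists_pow_mem hP q hz
  obtain ⟨w, hw⟩ := mem_range_of_pow_mem (P := P⟮ξ⟯) q hsep ⟨algebraMap P P⟮ξ⟯ r, hr⟩
  have hzmem : z ∈ P⟮ξ⟯ := hw ▸ w.2
  have hint : (Polynomial.aeval (R := P) ξ).toRingHom.IsIntegralElem z := by
    obtain ⟨F, hF, hF0⟩ := hz
    refine ⟨F.map Polynomial.C, hF.map _, ?_⟩
    rw [Polynomial.eval₂_map]
    rw [← hF0]
    congr 1
    exact RingHom.ext fun a => Polynomial.aeval_C ξ a
  obtain ⟨p, rfl⟩ := exists_aeval_eq hξ hzmem hint
  by_cases hp : p.natDegree = 0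
  · rw [Polynomial.eq_C_of_natDegree_eq_zero hp, Polynomial.aeval_C]
    exact ⟨_, rfl⟩
  · exact absurd hz.isAlgebraic (hξ.aeval p hp
      (mem_nonZeroDivisors_of_ne_zero (Polynomial.leadingCoeff_ne_zero.2 fun h => hp (by rw [h, Polynomial.natDegree_zero]))))

include hP in
/-- The key step: two pencils with the same separable closures are separably closed. -/
theorem mem_adjoin_of_le [Infinite P] {ξa ξb : Ω} (ha : Transcendental P ξa) (La : IntermediateField P Ω)
    (hLsep : ∀ z ∈ La, IsSeparable P⟮ξa⟯ z) (hb : Transcendental La ξb) {θ : Ω}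
    (hθa : IsAlgebraic P⟮ξb⟯ θ) (hθ : θ ∈ La⟮ξb⟯) : θ ∈ P⟮ξb⟯ := by
  classical
  let φ := (Polynomial.aeval (R := P) ξb)
  letI : Algebra (Polynomial P) Ω := φ.toRingHom.toAlgebra
  have hbP : Transcendental P ξb := hb.restrictScalars (algebraMap P La).injective
  have hsurj : Function.Surjective (φ.codRestrict (Algebra.adjoin P {ξb}) fun p => by
      rw [Algebra.adjoin_singleton_eq_range_aeval]; exact ⟨p, rfl⟩) := fun a => by
    obtain ⟨p, hp⟩ : (a : Ω) ∈ φ.range := by
      rw [← Algebra.adjoin_singleton_eq_range_aeval]; exact a.2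
    exact ⟨p, Subtype.ext hp⟩
  have hθP : IsAlgebraic (Polynomial P) θ := by
    have h1 : IsAlgebraic (Algebra.adjoin P {ξb}) θ := by
      open scoped IntermediateField.algebraAdjoinAdjoin in
      exact (IsFractionRing.isAlgebraic_iff (Algebra.adjoin P {ξb}) P⟮ξb⟯ Ω).2 hθa
    exact IsAlgebraic.of_ringHom_of_comp_eq
      (φ.codRestrict (Algebra.adjoin P {ξb}) _).toRingHom (RingHom.id Ω) h1 hsurj
      Function.injective_id (RingHom.ext fun p => rfl)
  obtain ⟨d, hd, hint⟩ := hθP.exists_integral_multiple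
  have hd' : Polynomial.aeval ξb d ≠ 0 := fun h => hd (transcendental_iff_injective.1 hbP (h.trans (map_zero _).symm))
  set θ' := Polynomial.aeval ξb d * θ with hθ'
  have hsmul : d • θ = θ' := rfl
  rw [hsmul] at hint
  obtain ⟨F, hF, hF0⟩ := hint
  let j : Polynomial P →+* Polynomial La := Polynomial.mapRingHom (algebraMap P La)
  have hj : ∀ p, Polynomial.aeval ξb (j p) = φ p := fun p => Polynomial.aeval_map_algebraMap La ξb p
  have hθ'mem : θ' ∈ La⟮ξb⟯ := by
    refine mul_mem ?_ hθ
    rw [← hj d]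
    exact IntermediateField.algebra_adjoin_le_adjoin La _ (Polynomial.aeval_mem_adjoin_singleton La ξb)
  obtain ⟨q, hq⟩ := exists_aeval_eq hb hθ'mem ⟨F.map j, hF.map _, by
    rw [Polynomial.eval₂_map, ← hF0]
    congr 1
    exact RingHom.ext hj⟩
  have hG : Polynomial.eval₂ j q F = 0 := transcendental_iff_injective.1 hb (by
    rw [map_zero, ← hF0, ← AlgHom.coe_toRingHom, Polynomial.hom_eval₂, AlgHom.coe_toRingHom, hq]
    congr 1
    exact RingHom.ext hj)
  -- all the values of `q` at points of `P` lie in `P`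
  have hval : ∀ c : P, (Polynomial.eval (algebraMap P La c) q : La) ∈ Set.range (algebraMap P La) := by
    intro c
    set v : La := Polynomial.eval (algebraMap P La c) q with hv
    have hvint : IsIntegral P v := by
      refine ⟨F.map (Polynomial.evalRingHom c), hF.map _, ?_⟩
      have h := congrArg (Polynomial.evalRingHom (algebraMap P La c)) hG
      rw [Polynomial.hom_eval₂, map_zero] at h
      rw [Polynomial.eval₂_map]
      have hjc : (Polynomial.evalRingHom (algebraMap P La c)).comp j =
          (algebraMap P La).comp (Polynomial.evalRingHom c) := RingHom.ext fun p => by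
        simp only [j, RingHom.comp_apply, Polynomial.coe_evalRingHom, Polynomial.coe_mapRingHom,
          Polynomial.eval_map, Polynomial.eval₂_at_apply]
      rw [hjc] at h
      exact h
    obtain ⟨r, hr⟩ := mem_range_of_isSeparable_adjoin hP ha (hvint.map (IsScalarTower.toAlgHom P La Ω))
      (hLsep _ v.2)
    exact ⟨r, Subtype.ext hr⟩
  choose vals hvals using hval
  obtain ⟨s, hs⟩ := Infinite.exists_subset_card_eq P (q.natDegree + 1)
  let q₀ := Lagrange.interpolate s id vals
  have hq₀ : q₀.map (algebraMap P La) = q := by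
    refine Polynomial.eq_of_degrees_lt_of_eval_index_eq s
      ((algebraMap P La).injective.injOn) ?_ ?_ (fun c hc => ?_)
    · exact lt_of_le_of_lt Polynomial.degree_map_le (Lagrange.degree_interpolate_lt _ Function.injective_id.injOn)
    · exact lt_of_le_of_lt Polynomial.degree_le_natDegree (by rw [hs]; exact_mod_cast Nat.lt_succ_self _)
    · rw [Polynomial.eval_map, Polynomial.eval₂_at_apply, ← hvals c]
      congr 1
      exact Lagrange.eval_interpolate_at_node vals Function.injective_id.injOn hc
  have hθ'P : θ' ∈ P⟮ξb⟯ := by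
    rw [← hq, ← hq₀, Polynomial.aeval_map_algebraMap]
    exact IntermediateField.algebra_adjoin_le_adjoin P _ (Polynomial.aeval_mem_adjoin_singleton P ξb)
  have : θ = θ' / Polynomial.aeval ξb d := by rw [hθ', mul_div_cancel_left₀ _ hd']
  rw [this]
  exact div_mem hθ'P (IntermediateField.algebra_adjoin_le_adjoin P _ (Polynomial.aeval_mem_adjoin_singleton P ξb))

/-- Linear changes of two variables preserve algebraic independence. -/
theorem algebraicIndependent_pencil {ξ η : Ω} (h : AlgebraicIndependent P ![ξ, η]) {a b : P} (hab : a ≠ b) :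
    AlgebraicIndependent P ![ξ + algebraMap P Ω a * η, ξ + algebraMap P Ω b * η] := by
  let X := MvPolynomial.X (R := P) (σ := Fin 2)
  let C := MvPolynomial.C (R := P) (σ := Fin 2)
  let φ : MvPolynomial (Fin 2) P →ₐ[P] MvPolynomial (Fin 2) P :=
    MvPolynomial.aeval ![X 0 + C a * X 1, X 0 + C b * X 1]
  let ψ : MvPolynomial (Fin 2) P →ₐ[P] MvPolynomial (Fin 2) P :=
    MvPolynomial.aeval ![X 0 - C a * (C (a - b)⁻¹ * (X 0 - X 1)), C (a - b)⁻¹ * (X 0 - X 1)]
  have hψφ : ψ.comp φ = AlgHom.id P _ := by
    refine MvPolynomial.algHom_ext fun i => ?_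
    have hab' : a - b ≠ 0 := sub_ne_zero.2 hab
    fin_cases i
    · simp [φ, ψ, X, C]
    · simp only [φ, ψ, X, C, AlgHom.comp_apply, MvPolynomial.aeval_X]
      simp only [Matrix.cons_val_one, Matrix.cons_val_zero, Fin.mk_one, Fin.isValue, map_add, map_mul, MvPolynomial.aeval_X,
        MvPolynomial.algHom_C, MvPolynomial.algebraMap_eq, AlgHom.coe_id, id_eq]
      have : (MvPolynomial.C (a - b) : MvPolynomial (Fin 2) P) * MvPolynomial.C (a - b)⁻¹ = 1 := by
        rw [← map_mul, mul_inv_cancel₀ hab', map_one]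
      rw [map_sub] at this
      linear_combination (-MvPolynomial.X (0 : Fin 2) + MvPolynomial.X (1 : Fin 2)) * this
  have hcomp : MvPolynomial.aeval (R := P) ![ξ + algebraMap P Ω a * η, ξ + algebraMap P Ω b * η] =
      (MvPolynomial.aeval ![ξ, η]).comp φ := by
    refine MvPolynomial.algHom_ext fun i => ?_
    fin_cases i <;> simp [φ, X, C]
  unfold AlgebraicIndependent
  rw [hcomp, AlgHom.coe_comp]
  exact Function.Injective.comp h (Function.LeftInverse.injective (g := ψ) (DFunLike.congr_fun hψφ))

/-- The second member of a pencil is transcendental over the field of the first. -/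
theorem transcendental_adjoin_simple {ξa ξb : Ω} (h : AlgebraicIndependent P ![ξa, ξb]) :
    Transcendental P⟮ξa⟯ ξb := by
  have h1 := h.transcendental_adjoin (s := {0}) (i := 1) (by simp)
  rw [Set.image_singleton] at h1
  intro hb
  apply h1
  open scoped IntermediateField.algebraAdjoinAdjoin in
  exact (IsFractionRing.isAlgebraic_iff (Algebra.adjoin P {ξa}) P⟮ξa⟯ Ω).2 hb

/-- Separability is transported along an embedding of fields mapping base fields into each other. -/
theorem isSeparable_of_semilinear {F F' : Type u} [Field F] [Field F'] [Algebra F Ω] [Algebra F' Ω]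
    (τ : F →+* F') (σ : Ω →+* Ω) (h : ∀ a, σ (algebraMap F Ω a) = algebraMap F' Ω (τ a))
    {θ : Ω} (hθ : IsSeparable F θ) : IsSeparable F' (σ θ) := by
  refine Polynomial.Separable.of_dvd (Polynomial.Separable.map (f := τ) hθ) (minpoly.dvd _ _ ?_)
  rw [Polynomial.aeval_def, Polynomial.eval₂_map]
  have h0 := congrArg σ (minpoly.aeval F θ)
  rw [map_zero, Polynomial.aeval_def, Polynomial.hom_eval₂] at h0
  rw [← h0]
  congr 1
  exact RingHom.ext fun a => (h a).symm

/-- A field map preserving `P` and sending `ξ` into `P(ξ')` sends `P(ξ)` into `P(ξ')`. -/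
theorem map_mem_adjoin (σ : Ω →+* Ω) (hσ : ∀ r, σ (algebraMap P Ω r) ∈ Set.range (algebraMap P Ω))
    {ξ ξ' : Ω} (hξ : σ ξ ∈ P⟮ξ'⟯) {w : Ω} (hw : w ∈ P⟮ξ⟯) : σ w ∈ P⟮ξ'⟯ := by
  induction hw using IntermediateField.adjoin_induction with
  | mem x hx => rw [Set.mem_singleton_iff.1 hx]; exact hξ
  | algebraMap r =>
    obtain ⟨r', hr'⟩ := hσ r
    rw [← hr']
    exact IntermediateField.algebraMap_mem _ _
  | add x y _ _ hx hy => rw [map_add]; exact add_mem hx hy
  | inv x _ hx => rw [map_inv₀]; exact inv_mem hx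
  | mul x y _ _ hx hy => rw [map_mul]; exact mul_mem hx hy

include hP in
/-- The main theorem on generic pencils. -/
theorem mem_adjoin_of_isSeparable [Infinite P] (hfg : (⊤ : IntermediateField P Ω).FG)
    {ξ η : Ω} (hind : AlgebraicIndependent P ![ξ, η]) {ι : Type*} [Infinite ι] (e : ι → P)
    (he : Function.Injective e) (σ : ι → (Ω ≃+* Ω))
    (hσ : ∀ i r, σ i (algebraMap P Ω r) ∈ Set.range (algebraMap P Ω))
    (hσ' : ∀ i r, (σ i).symm (algebraMap P Ω r) ∈ Set.range (algebraMap P Ω))
    (hσξ : ∀ i, σ i ξ = ξ + algebraMap P Ω (e i) * η)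
    {θ : Ω} (hθ : IsSeparable P⟮ξ⟯ θ) : θ ∈ P⟮ξ⟯ := by
  classical
  let ξ' : ι → Ω := fun i => ξ + algebraMap P Ω (e i) * η
  let F' : IntermediateField P Ω := IntermediateField.adjoin P {ξ, η}
  have hξF : ∀ i, P⟮ξ' i⟯ ≤ F' := fun i => by
    rw [IntermediateField.adjoin_simple_le_iff]
    exact add_mem (IntermediateField.subset_adjoin P _ (by simp))
      (mul_mem (IntermediateField.algebraMap_mem _ _) (IntermediateField.subset_adjoin P _ (by simp)))
  let L : ι → IntermediateField P Ω := fun i => (separableClosure P⟮ξ' i⟯ Ω).restrictScalars P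
  have hLsep : ∀ i, ∀ z ∈ L i, IsSeparable P⟮ξ' i⟯ z := fun i z hz =>
    mem_separableClosure_iff.1 hz
  -- the separable closure of `F'` is finite, hence has finitely many subextensions
  let M := separableClosure F' Ω
  have hfgF : (⊤ : IntermediateField F' Ω).FG := by
    obtain ⟨t, ht, htop⟩ := IntermediateField.fg_def.1 hfg
    refine IntermediateField.fg_def.2 ⟨t, ht, IntermediateField.restrictScalars_eq_top_iff (K := P).1 ?_⟩
    rw [eq_top_iff, ← htop, IntermediateField.adjoin_le_iff]
    exact fun a ha => IntermediateField.subset_adjoin F' t ha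
  haveI : FiniteDimensional F' (algebraicClosure F' Ω) := Groth.Agent.S6333.result hfgF
  have hle : M ≤ algebraicClosure F' Ω := fun a ha =>
    mem_algebraicClosure_iff.2 (mem_separableClosure_iff.1 ha).isIntegral.isAlgebraic
  haveI : FiniteDimensional F' M :=
    FiniteDimensional.of_injective (IntermediateField.inclusion hle).toLinearMap (IntermediateField.inclusion hle).injective
  haveI : Algebra.IsSeparable F' M := separableClosure.isSeparable F' Ω
  haveI : Finite (IntermediateField F' M) :=
    Field.finite_intermediateField_of_exists_primitive_element F' M (Field.exists_primitive_element F' M)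
  let Mi : ι → IntermediateField F' Ω := fun i => IntermediateField.adjoin F' (L i : Set Ω)
  have hMi : ∀ i, Mi i ≤ M := fun i => by
    rw [IntermediateField.adjoin_le_iff]
    intro z hz
    rw [SetLike.mem_coe, mem_separableClosure_iff]
    have h := isSeparable_of_semilinear (F' := F') (IntermediateField.inclusion (hξF i)).toRingHom
      (RingHom.id Ω) (fun a => rfl) (hLsep i z hz)
    exact h
  let N : ι → IntermediateField F' M := fun i => (Mi i).comap M.val
  have hNinj : ∀ i j, N i = N j → Mi i = Mi j := fun i j h => by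
    have : ∀ i, (N i).map M.val = Mi i := fun i => by
      refine SetLike.ext fun z => ⟨?_, fun hz => (IntermediateField.mem_map _).2 ⟨⟨z, hMi i hz⟩, hz, rfl⟩⟩
      rintro ⟨w, hw, rfl⟩
      exact hw
    rw [← this i, ← this j, h]
  obtain ⟨a, b, hab, hNab⟩ := Finite.exists_ne_map_eq_of_infinite N
  have hMab := hNinj a b hNab
  have hpair : AlgebraicIndependent P ![ξ' a, ξ' b] := algebraicIndependent_pencil hind (fun h => hab (he h))
  have htra : Transcendental P (ξ' a) := by simpa using hpair.transcendental 0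
  have hPa : P⟮ξ' a⟯ ≤ L a := fun z hz => by
    show z ∈ separableClosure P⟮ξ' a⟯ Ω
    exact IntermediateField.algebraMap_mem _ (⟨z, hz⟩ : P⟮ξ' a⟯)
  have htrb : Transcendental (L a) (ξ' b) := by
    intro hb
    apply transcendental_adjoin_simple hpair
    letI : Algebra P⟮ξ' a⟯ (L a) := (IntermediateField.inclusion hPa).toRingHom.toAlgebra
    haveI : IsScalarTower P⟮ξ' a⟯ (L a) Ω := IsScalarTower.of_algebraMap_eq fun z => rfl
    haveI : Algebra.IsAlgebraic P⟮ξ' a⟯ (L a) := ⟨fun z => by
      refine (isAlgebraic_algebraMap_iff (algebraMap (L a) Ω).injective).1 ?_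
      exact (hLsep a z z.2).isIntegral.isAlgebraic⟩
    exact IsAlgebraic.restrictScalars P⟮ξ' a⟯ hb
  set θb := σ b θ with hθb
  have hsep : IsSeparable P⟮ξ' b⟯ θb := by
    have hmem : ∀ w : P⟮ξ⟯, σ b (w : Ω) ∈ P⟮ξ' b⟯ := fun w => map_mem_adjoin (σ b).toRingHom (hσ b)
      (show σ b ξ ∈ P⟮ξ' b⟯ by rw [hσξ]; exact IntermediateField.mem_adjoin_simple_self P _) w.2
    exact isSeparable_of_semilinear
      (((σ b).toRingHom.comp (algebraMap P⟮ξ⟯ Ω)).codRestrict P⟮ξ' b⟯.toSubfield hmem)
      (σ b).toRingHom (fun a => rfl) hθ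
  have hθbM : θb ∈ Mi a := hMab ▸ IntermediateField.subset_adjoin F' _
    (show θb ∈ L b from mem_separableClosure_iff.2 hsep)
  have hF'le : ∀ z ∈ F', z ∈ (L a)⟮ξ' b⟯ := by
    have hxa : ξ' a ∈ (L a)⟮ξ' b⟯ :=
      IntermediateField.algebraMap_mem _ (⟨_, hPa (IntermediateField.mem_adjoin_simple_self P _)⟩ : L a)
    have hxb : ξ' b ∈ (L a)⟮ξ' b⟯ := IntermediateField.mem_adjoin_simple_self _ _
    have hP' : ∀ r : P, algebraMap P Ω r ∈ (L a)⟮ξ' b⟯ := fun r =>
      IntermediateField.algebraMap_mem _ (algebraMap P (L a) r)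
    have hne : algebraMap P Ω (e a) - algebraMap P Ω (e b) ≠ 0 :=
      sub_ne_zero.2 fun h => hab (he ((algebraMap P Ω).injective h))
    have hη : η ∈ (L a)⟮ξ' b⟯ := by
      have : η = (ξ' a - ξ' b) / (algebraMap P Ω (e a) - algebraMap P Ω (e b)) := by
        rw [eq_div_iff hne]; simp only [ξ']; ring
      rw [this]
      exact div_mem (sub_mem hxa hxb) (sub_mem (hP' _) (hP' _))
    have hξ : ξ ∈ (L a)⟮ξ' b⟯ := by
      have : ξ = ξ' a - algebraMap P Ω (e a) * η := by simp only [ξ']; ring
      rw [this]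
      exact sub_mem hxa (mul_mem (hP' _) hη)
    have : F' ≤ ((L a)⟮ξ' b⟯).restrictScalars P := by
      rw [IntermediateField.adjoin_le_iff]
      rintro x (rfl | rfl)
      exacts [hξ, hη]
    exact fun z hz => this hz
  have hθbL : ∀ w ∈ Mi a, w ∈ (L a)⟮ξ' b⟯ := by
    intro w hw
    induction hw using IntermediateField.adjoin_induction with
    | mem x hx => exact IntermediateField.algebraMap_mem _ (⟨x, hx⟩ : L a)
    | algebraMap r => exact hF'le _ r.2
    | add x y _ _ hx hy => exact add_mem hx hy
    | inv x _ hx => exact inv_mem hx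
    | mul x y _ _ hx hy => exact mul_mem hx hy
  have hmain := mem_adjoin_of_le hP htra (L a) (hLsep a) htrb hsep.isIntegral.isAlgebraic (hθbL θb hθbM)
  have hback := map_mem_adjoin (σ b).symm.toRingHom (hσ' b) (ξ := ξ' b) (ξ' := ξ)
    (show (σ b).symm (ξ' b) ∈ P⟮ξ⟯ by
      rw [show ξ' b = σ b ξ from (hσξ b).symm, RingEquiv.symm_apply_apply]
      exact IntermediateField.mem_adjoin_simple_self P ξ) hmain
  simpa [hθb] using hback

end Groth.L20.GeomIrredLinear
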