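import Groth.Agent.L20.GeomIrredLinear.Core
import Mathlib.Algebra.MvPolynomial.Funext
import Mathlib.RingTheory.Polynomial.UniqueFactorization
import Mathlib.Algebra.CharP.Lemmas
import Mathlib.Algebra.CharP.Algebra
import Mathlib.FieldTheory.IsAlgClosed.AlgebraicClosure
import Mathlib.RingTheory.MvPolynomial.Basic
import Mathlib.RingTheory.AlgebraicIndependent.Adjoin

/-!
# `k(x)` is separably closed in `K(x)` when `k` is in `K`; triangular translations of `K(x)`
-/

set_option autoImplicit false
set_option linter.style.haveILetI false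
universe u

open IntermediateField MvPolynomial

namespace Groth.L20.GeomIrredLinear

variable {k K : Type u} [Field k] [Field K] [Algebra k K]

/-- A polynomial whose values at the algebraic points are algebraic has algebraic coefficients. -/
theorem exists_map_eq_of_eval_mem {E : Type u} [Field E] {kb : Type u} [Field kb] [Infinite kb] [Algebra kb E]
    {σ : Type*} (w : MvPolynomial σ E)
    (h : ∀ c : σ → kb, MvPolynomial.eval (fun i => algebraMap kb E (c i)) w ∈ Set.range (algebraMap kb E)) :
    ∃ w₀ : MvPolynomial σ kb, MvPolynomial.map (algebraMap kb E) w₀ = w := by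
  classical
  obtain ⟨φ, hφ⟩ := LinearMap.exists_leftInverse_of_injective (Algebra.linearMap kb E)
    (LinearMap.ker_eq_bot.2 (algebraMap kb E).injective)
  have hφ' : ∀ r, φ (algebraMap kb E r) = r := fun r => LinearMap.congr_fun hφ r
  let Φ : MvPolynomial σ E → MvPolynomial σ kb := fun p =>
    p.support.sum fun m => MvPolynomial.monomial m (φ (p.coeff m))
  have hΦc : ∀ p m, (Φ p).coeff m = φ (p.coeff m) := fun p m => by
    simp only [Φ, MvPolynomial.coeff_sum, MvPolynomial.coeff_monomial, Finset.sum_ite_eq']
    split_ifs with hm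
    · rfl
    · rw [MvPolynomial.notMem_support_iff.1 hm, map_zero]
  have hΦ : ∀ (p : MvPolynomial σ E) (c : σ → kb),
      MvPolynomial.eval c (Φ p) = φ (MvPolynomial.eval (fun i => algebraMap kb E (c i)) p) := fun p c => by
    rw [MvPolynomial.eval_eq (f := p), map_sum]
    simp only [Φ, map_sum, MvPolynomial.eval_monomial]
    refine Finset.sum_congr rfl fun m _ => ?_
    have e : ∏ i ∈ m.support, (algebraMap kb E (c i)) ^ m i = algebraMap kb E (∏ i ∈ m.support, c i ^ m i) := by
      simp only [map_prod, map_pow]
    rw [e, ← Algebra.commutes, ← Algebra.smul_def, map_smul, smul_eq_mul, mul_comm]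
    rfl
  refine ⟨Φ w, ?_⟩
  refine MvPolynomial.funext_set (fun _ => Set.range (algebraMap kb E))
    (fun _ => Set.infinite_range_of_injective (algebraMap kb E).injective) fun c hc => ?_
  choose c' hc' using fun i => hc i (Set.mem_univ i)
  obtain rfl : c = fun i => algebraMap kb E (c' i) := funext fun i => (hc' i).symm
  obtain ⟨r, hr⟩ := h c'
  rw [MvPolynomial.eval_map]
  refine (MvPolynomial.eval₂_comp (algebraMap kb E) c' (Φ w)).symm.trans ?_
  rw [hΦ, ← hr, hφ']

variable {n : Type*} [Finite n]

variable (k K n) in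
/-- The subfield generated over `k` by the variables. -/
noncomputable def ratSub : IntermediateField k (FractionRing (MvPolynomial n K)) :=
  IntermediateField.adjoin k
    (Set.range fun i : n => algebraMap (MvPolynomial n K) (FractionRing (MvPolynomial n K)) (X i))

theorem algebraMap_map_mem (p : MvPolynomial n k) :
    algebraMap (MvPolynomial n K) (FractionRing (MvPolynomial n K)) (MvPolynomial.map (algebraMap k K) p)
      ∈ ratSub k K n := by
  induction p using MvPolynomial.induction_on with
  | C a =>
    rw [MvPolynomial.map_C]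
    have : algebraMap (MvPolynomial n K) (FractionRing (MvPolynomial n K)) (C (algebraMap k K a)) =
        algebraMap k (FractionRing (MvPolynomial n K)) a := by
      rw [← MvPolynomial.algebraMap_eq, ← IsScalarTower.algebraMap_apply, ← IsScalarTower.algebraMap_apply]
    rw [this]
    exact IntermediateField.algebraMap_mem _ _
  | add p q hp hq => rw [map_add, map_add]; exact add_mem hp hq
  | mul_X p i hp =>
    rw [map_mul, map_mul, MvPolynomial.map_X]
    exact mul_mem hp (IntermediateField.subset_adjoin k _ ⟨i, rfl⟩)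

theorem exists_eq_div {w : FractionRing (MvPolynomial n K)} (hw : w ∈ ratSub k K n) :
    ∃ r s : MvPolynomial n k, s ≠ 0 ∧ w = algebraMap (MvPolynomial n K) (FractionRing (MvPolynomial n K)) (MvPolynomial.map (algebraMap k K) r) /
      algebraMap (MvPolynomial n K) (FractionRing (MvPolynomial n K)) (MvPolynomial.map (algebraMap k K) s) := by
  set ι := algebraMap (MvPolynomial n K) (FractionRing (MvPolynomial n K)) with hι
  have hne : ∀ s : MvPolynomial n k, s ≠ 0 → ι (MvPolynomial.map (algebraMap k K) s) ≠ 0 := fun s hs h =>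
    hs (MvPolynomial.map_injective _ (algebraMap k K).injective (by
      rw [map_zero]; exact IsFractionRing.injective (MvPolynomial n K) _ (h.trans (map_zero _).symm)))
  induction hw using IntermediateField.adjoin_induction with
  | mem x hx =>
    obtain ⟨i, rfl⟩ := hx
    exact ⟨X i, 1, one_ne_zero, by simp [hι]⟩
  | algebraMap r =>
    refine ⟨C r, 1, one_ne_zero, ?_⟩
    rw [map_one, map_one, div_one, MvPolynomial.map_C, hι, ← MvPolynomial.algebraMap_eq, ← IsScalarTower.algebraMap_apply,
      ← IsScalarTower.algebraMap_apply]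
  | add x y _ _ hx hy =>
    obtain ⟨r, s, hs, rfl⟩ := hx
    obtain ⟨r', s', hs', rfl⟩ := hy
    refine ⟨r * s' + s * r', s * s', mul_ne_zero hs hs', ?_⟩
    rw [div_add_div _ _ (hne s hs) (hne s' hs')]
    simp only [map_add, map_mul]
  | inv x _ hx =>
    obtain ⟨r, s, hs, rfl⟩ := hx
    by_cases hr : r = 0
    · exact ⟨0, 1, one_ne_zero, by simp [hr]⟩
    · exact ⟨s, r, hr, inv_div _ _⟩
  | mul x y _ _ hx hy =>
    obtain ⟨r, s, hs, rfl⟩ := hx
    obtain ⟨r', s', hs', rfl⟩ := hy
    refine ⟨r * r', s * s', mul_ne_zero hs hs', ?_⟩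
    rw [div_mul_div_comm]
    simp only [map_mul]

variable (hk : ∀ a : K, IsSeparable k a → a ∈ Set.range (algebraMap k K))

include hk in
/-- A polynomial over `K` which is algebraic over `k[x]` has a power with coefficients in `k`. -/
theorem exists_pow_eq_map {v : MvPolynomial n K}
    (hv : (MvPolynomial.map (σ := n) (algebraMap k K)).IsIntegralElem v) (q : ℕ) [ExpChar k q] :
    ∃ (N : ℕ) (v₀ : MvPolynomial n k), MvPolynomial.map (algebraMap k K) v₀ = v ^ q ^ N := by
  classical
  obtain ⟨F, hF, hF0⟩ := hv
  let E := AlgebraicClosure K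
  let kb := algebraicClosure k E
  haveI : Algebra.IsAlgebraic k kb := algebraicClosure.isAlgebraic k E
  haveI : IsAlgClosed kb := (algebraicClosure.isAlgClosure k E).isAlgClosed
  haveI : Infinite kb := IsAlgClosed.instInfinite
  obtain ⟨w₀, hw₀⟩ := exists_map_eq_of_eval_mem (kb := kb) (MvPolynomial.map (algebraMap K E) v) (fun c => by
    have hint : IsIntegral kb (MvPolynomial.eval (fun i => algebraMap kb E (c i)) (MvPolynomial.map (algebraMap K E) v)) := by
      refine ⟨F.map ((MvPolynomial.eval c).comp (MvPolynomial.map (algebraMap k kb))), hF.map _, ?_⟩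
      have h := congrArg ((MvPolynomial.eval fun i => algebraMap kb E (c i)).comp (MvPolynomial.map (algebraMap K E))) hF0
      rw [Polynomial.hom_eval₂, map_zero] at h
      rw [Polynomial.eval₂_map, ← h]
      congr 1
      refine MvPolynomial.ringHom_ext (fun r => ?_) (fun i => ?_)
      · simp only [RingHom.comp_apply, MvPolynomial.map_C, MvPolynomial.eval_C]
        rw [← IsScalarTower.algebraMap_apply k kb E, ← IsScalarTower.algebraMap_apply k K E]
      · simp only [RingHom.comp_apply, MvPolynomial.map_X, MvPolynomial.eval_X]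
    exact ⟨⟨_, mem_algebraicClosure_iff.2 (isIntegral_trans (R := k) (A := kb) _ hint).isAlgebraic⟩, rfl⟩)
  have hcoeff : ∀ m, ∃ N : ℕ, (v.coeff m) ^ q ^ N ∈ Set.range (algebraMap k K) := fun m => by
    refine exists_pow_mem hk q ((isIntegral_algebraMap_iff (B := E) (algebraMap K E).injective).1 ?_)
    have h := congrArg (MvPolynomial.coeff m) hw₀
    rw [MvPolynomial.coeff_map, MvPolynomial.coeff_map] at h
    rw [← h]
    exact ((Algebra.IsAlgebraic.isAlgebraic (R := k) (w₀.coeff m)).isIntegral).map (IsScalarTower.toAlgHom k kb E)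
  choose N hN using hcoeff
  let M := v.support.sup N
  haveI : ExpChar K q := expChar_of_injective_ringHom (algebraMap k K).injective q
  haveI : ExpChar (MvPolynomial n K) q := expChar_of_injective_ringHom (MvPolynomial.C_injective n K) q
  have hmem : v ^ q ^ M ∈ (MvPolynomial.map (σ := n) (algebraMap k K)).range := by
    rw [show v ^ q ^ M = (∑ m ∈ v.support, MvPolynomial.monomial m (v.coeff m)) ^ q ^ M by rw [← v.as_sum]]
    rw [sum_pow_char_pow]
    refine Subring.sum_mem _ fun m hm => ?_
    obtain ⟨r, hr⟩ := hN m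
    refine ⟨MvPolynomial.monomial (q ^ M • m) (r ^ q ^ (M - N m)), ?_⟩
    rw [MvPolynomial.map_monomial, map_pow, hr, ← pow_mul, ← pow_add, Nat.add_sub_cancel' (Finset.le_sup hm),
      MvPolynomial.monomial_pow]
  exact ⟨M, hmem⟩

include hk in
/-- `k(x)` is separably closed in `K(x)` when `k` is separably closed in `K`. -/
theorem mem_range_ratSub (z : FractionRing (MvPolynomial n K)) (hz : IsSeparable (ratSub k K n) z) :
    z ∈ Set.range (algebraMap (ratSub k K n) (FractionRing (MvPolynomial n K))) := by
  classical
  set ι := algebraMap (MvPolynomial n K) (FractionRing (MvPolynomial n K)) with hι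
  let j : MvPolynomial n k →+* ratSub k K n :=
    ((ι.comp (MvPolynomial.map (algebraMap k K))).codRestrict (ratSub k K n).toSubfield algebraMap_map_mem)
  letI : Algebra (MvPolynomial n k) (FractionRing (MvPolynomial n K)) := (ι.comp (MvPolynomial.map (algebraMap k K))).toAlgebra
  letI : Algebra (MvPolynomial n k) (ratSub k K n) := j.toAlgebra
  haveI : IsScalarTower (MvPolynomial n k) (ratSub k K n) (FractionRing (MvPolynomial n K)) :=
    IsScalarTower.of_algebraMap_eq fun p => rfl
  haveI : IsFractionRing (MvPolynomial n k) (ratSub k K n) := by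
    have hinj : Function.Injective j := fun a b h =>
      MvPolynomial.map_injective _ (algebraMap k K).injective
        (IsFractionRing.injective (MvPolynomial n K) (FractionRing (MvPolynomial n K)) (congrArg Subtype.val h))
    haveI : FaithfulSMul (MvPolynomial n k) (ratSub k K n) := (faithfulSMul_iff_algebraMap_injective _ _).2 hinj
    refine IsFractionRing.of_field _ _ fun w => ?_
    obtain ⟨r, s, hs, h⟩ := exists_eq_div w.2
    exact ⟨r, s, Subtype.ext h⟩
  obtain ⟨q, hq⟩ := ExpChar.exists k
  haveI := hq
  haveI : ExpChar (ratSub k K n) q := expChar_of_injective_ringHom (algebraMap k (ratSub k K n)).injective q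
  have halg : IsAlgebraic (MvPolynomial n k) z :=
    (IsFractionRing.isAlgebraic_iff (MvPolynomial n k) (ratSub k K n) _).2 hz.isIntegral.isAlgebraic
  obtain ⟨d, hd, hint⟩ := halg.exists_integral_multiple
  have hint' : IsIntegral (MvPolynomial n K) (d • z) := by
    obtain ⟨F, hF, hF0⟩ := hint
    exact ⟨F.map (MvPolynomial.map (algebraMap k K)), hF.map _, by rw [Polynomial.eval₂_map]; exact hF0⟩
  obtain ⟨v, hv⟩ := IsIntegrallyClosed.isIntegral_iff.1 hint'
  have hvint : (MvPolynomial.map (σ := n) (algebraMap k K)).IsIntegralElem v := by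
    obtain ⟨F, hF, hF0⟩ := hint
    refine ⟨F, hF, IsFractionRing.injective (MvPolynomial n K) (FractionRing (MvPolynomial n K)) ?_⟩
    rw [map_zero, Polynomial.hom_eval₂, hv]
    exact hF0
  obtain ⟨N, v₀, hv₀⟩ := exists_pow_eq_map hk hvint q
  have hds : IsSeparable (ratSub k K n) (d • z) := by
    refine mem_separableClosure_iff.1 ?_
    rw [Algebra.smul_def, IsScalarTower.algebraMap_apply (MvPolynomial n k) (ratSub k K n) _]
    exact mul_mem (IntermediateField.algebraMap_mem _ _) (mem_separableClosure_iff.2 hz)
  obtain ⟨w, hw⟩ := mem_range_of_pow_mem q hds (m := N)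
    ⟨j v₀, by show ι (MvPolynomial.map (algebraMap k K) v₀) = _; rw [hv₀, map_pow, hv]⟩
  have hjd : (algebraMap (ratSub k K n) (FractionRing (MvPolynomial n K)) (j d)) ≠ 0 :=
    (map_ne_zero _).2 fun h => hd ((IsFractionRing.injective (MvPolynomial n k) (ratSub k K n)) (h.trans (map_zero _).symm))
  refine ⟨w / j d, ?_⟩
  rw [map_div₀, hw, Algebra.smul_def, div_eq_iff hjd, mul_comm]
  rfl

/-- The automorphism `xᵢ ↦ xᵢ + cᵢ p` of a polynomial ring, for `p` fixed by it. -/
noncomputable def shift (c : n → K) (p : MvPolynomial n K)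
    (hp : ∀ r : K, MvPolynomial.aeval (fun i => X i + C (r * c i) * p) p = p) :
    MvPolynomial n K ≃ₐ[K] MvPolynomial n K :=
  AlgEquiv.ofAlgHom (MvPolynomial.aeval fun i => X i + C (1 * c i) * p)
    (MvPolynomial.aeval fun i => X i + C ((-1) * c i) * p)
    (MvPolynomial.algHom_ext fun i => by
      rw [AlgHom.comp_apply, MvPolynomial.aeval_X, map_add, map_mul, hp 1, MvPolynomial.aeval_X, MvPolynomial.algHom_C]
      simp only [MvPolynomial.algebraMap_eq, AlgHom.coe_id, id_eq, neg_mul, one_mul, map_neg]
      ring)
    (MvPolynomial.algHom_ext fun i => by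
      rw [AlgHom.comp_apply, MvPolynomial.aeval_X, map_add, map_mul, hp (-1), MvPolynomial.aeval_X, MvPolynomial.algHom_C]
      simp only [MvPolynomial.algebraMap_eq, AlgHom.coe_id, id_eq, neg_mul, one_mul, map_neg]
      ring)

end Groth.L20.GeomIrredLinear
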